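import Mathlib
import Cfsg.Prelude.Def_Involutions

/-!
# Blocks of fixed points

`G` acts transitively on `Ω`, all involutions of `G` fix `f` points and all involutions of a Sylow `2`-subgroup
`S` have the same fixed point set `Δ`. Then the stabilizer `M` of `Δ` is strongly embedded, and `|G : M|`, and the
number `λ` of conjugates of `Δ` through a point, are congruent to `1` modulo `|S|`.
-/

set_option autoImplicit false

open Cfsg

namespace Cfsg.Agent.H103.ThreeP

open MulAction Pointwise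

universe u v

/-- A `p`-element of `M` is conjugate in `M` to an element of a Sylow subgroup of `G` contained in `M`. -/
theorem exists_conj_mem {G : Type*} [Group G] [Finite G] {p : ℕ} [Fact p.Prime] (S : Sylow p G) {M : Subgroup G}
    (hSM : (S : Subgroup G) ≤ M) {t : G} (ht : t ∈ M) (hp : ∃ k, orderOf t = p ^ k) :
    ∃ m ∈ M, m * t * m⁻¹ ∈ (S : Subgroup G) := by
  obtain ⟨k, hk⟩ := hp
  have h1 : IsPGroup p (Subgroup.zpowers (⟨t, ht⟩ : M)) := by
    apply IsPGroup.of_card (n := k)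
    rw [Nat.card_zpowers, Subgroup.orderOf_mk, hk]
  obtain ⟨Q, hQ⟩ := h1.exists_le_sylow
  obtain ⟨m, hm⟩ := exists_smul_eq M Q (S.subtype hSM)
  refine ⟨m, m.2, ?_⟩
  have h2 : (⟨t, ht⟩ : M) ∈ (Q : Subgroup M) := hQ (Subgroup.mem_zpowers _)
  have h3 : m * ⟨t, ht⟩ * m⁻¹ ∈ ((S.subtype hSM : Sylow p M) : Subgroup M) := by
    rw [← hm, Sylow.coe_subgroup_smul]
    exact Subgroup.mem_pointwise_smul_iff_inv_smul_mem.mpr (by
      simpa [MulAut.smul_def, mul_assoc] using h2)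
  exact h3

/-- A group acting on `Y`, fixing `y₀` and acting freely elsewhere: the size of an invariant subset containing
`y₀` is congruent to `1`. -/
theorem dvd_ncard_sub_one {S Y : Type*} [Group S] [Finite Y] [MulAction S Y] (y₀ : Y) (Z : Set Y)
    (h0 : y₀ ∈ Z) (hZ : ∀ (s : S), ∀ z ∈ Z, s • z ∈ Z) (hfix : ∀ s : S, s • y₀ = y₀)
    (hfree : ∀ (s : S) (y : Y), y ≠ y₀ → s • y = y → s = 1) : Nat.card S ∣ Z.ncard - 1 := by
  classical
  let X : SubMulAction S Y :=
    { carrier := Z \ {y₀}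
      smul_mem' := by
        intro s z hz
        refine ⟨hZ s z hz.1, fun h => hz.2 ?_⟩
        have h' : s • z = y₀ := h
        rw [← hfix s] at h'
        exact MulAction.injective s h' }
  have h1 : ∀ b : X, stabilizer S b = ⊥ := by
    intro b
    rw [Subgroup.eq_bot_iff_forall]
    intro s hs
    refine hfree s b.1 (fun h => b.2.2 h) ?_
    exact congrArg Subtype.val (mem_stabilizer_iff.mp hs)
  have h2 := Nat.card_congr (selfEquivOrbitsQuotientProd h1)
  rw [Nat.card_prod] at h2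
  have h3 : Nat.card X = Z.ncard - 1 := by
    have h4 : Nat.card X = (Z \ {y₀}).ncard := rfl
    rw [h4, Set.ncard_sdiff_singleton_of_mem h0]
  rw [← h3, h2]
  exact dvd_mul_left _ _

variable {G : Type u} [Group G] [Finite G] {Ω : Type v} [Finite Ω] [MulAction G Ω]

/-- All involutions of `S` have the fixed point set `Δ`. -/
structure Same (S : Sylow 2 G) (Δ : Set Ω) : Prop where
  fix : ∀ t ∈ (S : Subgroup G), orderOf t = 2 → fixedBy Ω t = Δ
  ex : ∃ t ∈ (S : Subgroup G), orderOf t = 2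

namespace Same

variable {S : Sylow 2 G} {Δ : Set Ω}

omit [Finite G] [Finite Ω] in
theorem le_stab (h : Same S Δ) : (S : Subgroup G) ≤ stabilizer G Δ := by
  obtain ⟨t, ht, ht2⟩ := h.ex
  intro s hs
  rw [mem_stabilizer_iff, ← h.fix t ht ht2, smul_fixedBy]
  rw [h.fix t ht ht2]
  exact h.fix _ (mul_mem (mul_mem hs ht) (inv_mem hs)) (by
    rw [← ht2]
    exact (MulAut.conj s).orderOf_eq t)

omit [Finite Ω] in
theorem fix_of_mem (h : Same S Δ) {t : G} (ht : t ∈ stabilizer G Δ) (ht2 : orderOf t = 2) :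
    fixedBy Ω t = Δ := by
  obtain ⟨m, hm, hmS⟩ := exists_conj_mem S h.le_stab ht ⟨1, by rw [ht2, pow_one]⟩
  have h1 := h.fix _ hmS (by
    rw [← ht2]
    exact (MulAut.conj m).orderOf_eq t)
  rw [← smul_fixedBy] at h1
  have h2 : m⁻¹ • Δ = Δ := mem_stabilizer_iff.mp (inv_mem hm)
  calc fixedBy Ω t = m⁻¹ • m • fixedBy Ω t := (inv_smul_smul _ _).symm
    _ = Δ := by rw [h1, h2]

omit [Finite Ω] in
theorem mem_of_conj (h : Same S Δ) {t g : G} (ht2 : orderOf t = 2) (ht : t ∈ stabilizer G Δ)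
    (hg : g⁻¹ * t * g ∈ stabilizer G Δ) : g ∈ stabilizer G Δ := by
  have h1 := h.fix_of_mem ht ht2
  have h2 := h.fix_of_mem hg (by
    rw [← ht2]
    have := (MulAut.conj g⁻¹).orderOf_eq t
    rwa [MulAut.conj_apply, inv_inv] at this)
  rw [mem_stabilizer_iff]
  nth_rewrite 1 [← h2]
  rw [smul_fixedBy, show g * (g⁻¹ * t * g) * g⁻¹ = t by group, h1]

omit [Finite Ω] in
/-- The stabilizer of `Δ` is strongly embedded. -/
theorem stronglyEmbedded (h : Same S Δ) (hne : stabilizer G Δ ≠ ⊤) :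
    Cfsg.IsStronglyEmbedded (stabilizer G Δ) := by
  refine ⟨hne, ?_, ?_⟩
  · obtain ⟨t, ht, ht2⟩ := h.ex
    rw [even_iff_two_dvd, ← ht2, ← Subgroup.orderOf_mk t (h.le_stab ht)]
    exact orderOf_dvd_natCard _
  · intro g hg
    rw [← Nat.not_even_iff_odd, even_iff_two_dvd]
    intro hdvd
    obtain ⟨⟨t, ht⟩, ht2⟩ := exists_prime_orderOf_dvd_card' 2 hdvd
    rw [Subgroup.orderOf_mk] at ht2
    rw [Subgroup.mem_inf] at ht
    obtain ⟨ht1, s, hs, hst⟩ := ht
    apply hg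
    apply h.mem_of_conj ht2 ht1
    have hst' : g * s * g⁻¹ = t := hst
    rw [← hst', show g⁻¹ * (g * s * g⁻¹) * g = s by group]
    exact hs

omit [Finite Ω] in
/-- `S` acts freely on the cosets of `M` other than `M`. -/
theorem free (h : Same S Δ) (s : (S : Subgroup G)) (c : G ⧸ stabilizer G Δ) (hc : c ≠ ((1 : G) : G ⧸ stabilizer G Δ))
    (hsc : s • c = c) : s = 1 := by
  by_contra hs1
  obtain ⟨g, rfl⟩ := QuotientGroup.mk_surjective c
  -- an involution which is a power of `s`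
  obtain ⟨u, hu, hu2⟩ : ∃ u ∈ Subgroup.zpowers s, orderOf u = 2 := by
    have h1 : 2 ∣ Nat.card (Subgroup.zpowers s) := by
      rw [Nat.card_zpowers]
      obtain ⟨k, hk⟩ := (IsPGroup.iff_orderOf.mp S.isPGroup') s
      rw [hk]
      apply dvd_pow_self
      rintro rfl
      rw [pow_zero, orderOf_eq_one_iff] at hk
      exact hs1 hk
    obtain ⟨w, hw⟩ := exists_prime_orderOf_dvd_card' 2 h1
    exact ⟨w, w.2, by rw [Subgroup.orderOf_coe, hw]⟩
  have h1 : u • (g : G ⧸ stabilizer G Δ) = g := by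
    have h2 : Subgroup.zpowers s ≤ stabilizer (S : Subgroup G) (g : G ⧸ stabilizer G Δ) := by
      rw [Subgroup.zpowers_le]
      exact hsc
    exact h2 hu
  have h2 : g⁻¹ * (u : G) * g ∈ stabilizer G Δ := by
    have h3 : ((((u : G) * g : G)) : G ⧸ stabilizer G Δ) = (g : G ⧸ stabilizer G Δ) := h1
    rw [QuotientGroup.eq] at h3
    have h4 := inv_mem h3
    rw [show (((u : G) * g)⁻¹ * g)⁻¹ = g⁻¹ * (u : G) * g by group] at h4
    exact h4
  have h3 : g ∈ stabilizer G Δ := h.mem_of_conj (by rw [Subgroup.orderOf_coe, hu2]) (h.le_stab u.2) h2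
  apply hc
  rw [QuotientGroup.eq]
  simpa using h3

/-- The set of conjugates of `Δ` containing `β`, as cosets. -/
def Bl (G : Type u) [Group G] {Ω : Type v} [MulAction G Ω] (Δ : Set Ω) (β : Ω) : Set (G ⧸ stabilizer G Δ) :=
  {c | ∃ g : G, (g : G ⧸ stabilizer G Δ) = c ∧ β ∈ g • Δ}

omit [Finite G] [Finite Ω] in
theorem mk_mem_Bl {β : Ω} {g : G} : (g : G ⧸ stabilizer G Δ) ∈ Bl G Δ β ↔ g⁻¹ • β ∈ Δ := by
  constructor
  · rintro ⟨g', hg', hβ⟩
    rw [QuotientGroup.eq, mem_stabilizer_iff] at hg'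
    rw [← hg', mul_smul] at hβ
    have h1 : β ∈ g • Δ := by simpa using hβ
    rwa [Set.mem_smul_set_iff_inv_smul_mem] at h1
  · intro h
    exact ⟨g, rfl, by rwa [Set.mem_smul_set_iff_inv_smul_mem]⟩

omit [Finite Ω] in
theorem card_stab_mul (β : Ω) [IsPretransitive G Ω] :
    Δ.ncard * Nat.card (stabilizer G β) = (Bl G Δ β).ncard * Nat.card (stabilizer G Δ) := by
  classical
  -- both sides count `{g | g⁻¹ • β ∈ Δ}`
  have hA : Nat.card {g : G // g⁻¹ • β ∈ Δ} = Δ.ncard * Nat.card (stabilizer G β) := by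
    have e : {g : G // g⁻¹ • β ∈ Δ} ≃ Σ δ : Δ, {g : G // g⁻¹ • β = δ} :=
      { toFun := fun g => ⟨⟨g.1⁻¹ • β, g.2⟩, ⟨g.1, rfl⟩⟩
        invFun := fun x => ⟨x.2.1, by rw [x.2.2]; exact x.1.2⟩
        left_inv := fun g => rfl
        right_inv := by
          rintro ⟨⟨δ, hδ⟩, ⟨g, hg⟩⟩
          have hg' : g⁻¹ • β = δ := hg
          subst hg'
          rfl }
    rw [Nat.card_congr e]
    have e2 : ∀ δ : Δ, Nonempty ({g : G // g⁻¹ • β = δ} ≃ stabilizer G β) := by
      intro δ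
      obtain ⟨k, hk⟩ := exists_smul_eq G β (δ : Ω)
      refine ⟨⟨fun g => ⟨g.1 * k, ?_⟩, fun s => ⟨s.1 * k⁻¹, ?_⟩, fun g => ?_, fun s => ?_⟩⟩
      · have h1 := g.2
        rw [inv_smul_eq_iff] at h1
        rw [mem_stabilizer_iff, mul_smul, hk, ← h1]
      · rw [mul_inv_rev, inv_inv, mul_smul, ← hk]
        congr 1
        rw [inv_smul_eq_iff]
        exact (mem_stabilizer_iff.mp s.2).symm
      · apply Subtype.ext; simp
      · apply Subtype.ext; simp
    have e3 : (Σ δ : Δ, {g : G // g⁻¹ • β = δ}) ≃ Δ × stabilizer G β :=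
      (Equiv.sigmaCongrRight fun δ => (e2 δ).some).trans (Equiv.sigmaEquivProd _ _)
    rw [Nat.card_congr e3, Nat.card_prod]
    rfl
  have hB : Nat.card {g : G // g⁻¹ • β ∈ Δ} = (Bl G Δ β).ncard * Nat.card (stabilizer G Δ) := by
    have e : {g : G // g⁻¹ • β ∈ Δ} ≃ Σ c : Bl G Δ β, {g : G // (g : G ⧸ stabilizer G Δ) = c} :=
      { toFun := fun g => ⟨⟨(g.1 : G ⧸ stabilizer G Δ), mk_mem_Bl.mpr g.2⟩, ⟨g.1, rfl⟩⟩
        invFun := fun x => ⟨x.2.1, mk_mem_Bl.mp (by rw [x.2.2]; exact x.1.2)⟩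
        left_inv := fun g => rfl
        right_inv := by
          rintro ⟨⟨δ, hδ⟩, ⟨g, hg⟩⟩
          have hg' : (g : G ⧸ stabilizer G Δ) = δ := hg
          subst hg'
          rfl }
    rw [Nat.card_congr e]
    have e2 : ∀ c : Bl G Δ β, Nonempty ({g : G // (g : G ⧸ stabilizer G Δ) = c} ≃ stabilizer G Δ) := by
      rintro ⟨c, hc⟩
      obtain ⟨k, rfl⟩ := QuotientGroup.mk_surjective c
      refine ⟨⟨fun g => ⟨k⁻¹ * g.1, ?_⟩, fun s => ⟨k * s.1, ?_⟩, fun g => ?_, fun s => ?_⟩⟩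
      · exact QuotientGroup.eq.mp g.2.symm
      · simp
      · apply Subtype.ext; simp
      · apply Subtype.ext; simp
    have e3 : (Σ c : Bl G Δ β, {g : G // (g : G ⧸ stabilizer G Δ) = c}) ≃ Bl G Δ β × stabilizer G Δ :=
      (Equiv.sigmaCongrRight fun c => (e2 c).some).trans (Equiv.sigmaEquivProd _ _)
    rw [Nat.card_congr e3, Nat.card_prod]
    rfl
  rw [← hA, hB]

omit [Finite Ω] in
/-- `|Ω| λ = f |G : M|`. -/
theorem card_mul_lambda (β : Ω) [IsPretransitive G Ω] :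
    Nat.card Ω * (Bl G Δ β).ncard = Δ.ncard * (stabilizer G Δ).index := by
  have h1 := card_stab_mul (G := G) (Δ := Δ) β
  have h2 : Nat.card (stabilizer G β) * Nat.card Ω = Nat.card G := by
    rw [← index_stabilizer_of_transitive G β]
    exact Subgroup.card_mul_index _
  have h3 := Subgroup.card_mul_index (stabilizer G Δ)
  have h4 : 0 < Nat.card (stabilizer G Δ) := Nat.card_pos
  apply Nat.eq_of_mul_eq_mul_right h4
  calc Nat.card Ω * (Bl G Δ β).ncard * Nat.card (stabilizer G Δ)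
      = Nat.card Ω * ((Bl G Δ β).ncard * Nat.card (stabilizer G Δ)) := by ring
    _ = Δ.ncard * (Nat.card (stabilizer G β) * Nat.card Ω) := by rw [← h1]; ring
    _ = Δ.ncard * (stabilizer G Δ).index * Nat.card (stabilizer G Δ) := by rw [h2, ← h3]; ring

omit [Finite Ω] in
theorem index_mod (h : Same S Δ) : Nat.card (S : Subgroup G) ∣ (stabilizer G Δ).index - 1 := by
  have h1 := dvd_ncard_sub_one (S := (S : Subgroup G)) ((1 : G) : G ⧸ stabilizer G Δ) Set.univ
    (Set.mem_univ _) (fun _ _ _ => Set.mem_univ _) ?_ h.free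
  · rwa [Set.ncard_univ] at h1
  · intro s
    have h2 : s • ((1 : G) : G ⧸ stabilizer G Δ) = (((s : G) * 1 : G) : G ⧸ stabilizer G Δ) := rfl
    rw [h2, QuotientGroup.eq, mul_one, mul_one]
    exact inv_mem (h.le_stab s.2)

omit [Finite Ω] in
/-- The number of blocks through a fixed point of `S` in `Δ`. -/
theorem lambda_mod (h : Same S Δ) {α : Ω} (hα : ∀ s ∈ (S : Subgroup G), s • α = α) :
    Nat.card (S : Subgroup G) ∣ (Bl G Δ α).ncard - 1 := by
  apply dvd_ncard_sub_one (S := (S : Subgroup G)) ((1 : G) : G ⧸ stabilizer G Δ) (Bl G Δ α) _ _ _ h.free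
  · rw [mk_mem_Bl, inv_one, one_smul]
    obtain ⟨t, ht, ht2⟩ := h.ex
    rw [← h.fix t ht ht2]
    exact hα t ht
  · rintro s _ ⟨g, rfl, hg⟩
    refine ⟨s * g, rfl, ?_⟩
    rw [Set.mem_smul_set_iff_inv_smul_mem] at hg ⊢
    rw [mul_inv_rev, mul_smul, show (s : G)⁻¹ • α = α from hα _ (inv_mem s.2)]
    exact hg
  · intro s
    have h2 : s • ((1 : G) : G ⧸ stabilizer G Δ) = (((s : G) * 1 : G) : G ⧸ stabilizer G Δ) := rfl
    rw [h2, QuotientGroup.eq, mul_one, mul_one]
    exact inv_mem (h.le_stab s.2)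

end Same

end Cfsg.Agent.H103.ThreeP
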