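import Mathlib
import Cfsg.Prelude.Def_Classical
import Cfsg.Prelude.Def_Exceptional
import Cfsg.Agent.HKS.EndOrd
import Cfsg.Agent.SmallSimple.PSLTwoPart
import Cfsg.Agent.S0222
import Cfsg.Agent.H103.ThreeP.Block

/-!
# Degree `3 p`, the strongly embedded case
-/

set_option autoImplicit false

open Cfsg

namespace Cfsg.Agent.H103.ThreeP

open MulAction Pointwise

universe u v

/-- arithmetic: `N ≡ 1` modulo `q`, `N ∣ q ^ 2 - 1` -/
theorem arith_two {q N : ℕ} (hq : 2 ≤ q) (h1 : N ∣ q ^ 2 - 1) (h2 : q ∣ N - 1) (hN : 1 < N) : N = q + 1 := by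
  obtain ⟨e, he⟩ := h1
  obtain ⟨k, hk⟩ := h2
  have hN' : N = q * k + 1 := by omega
  have hk0 : k ≠ 0 := by
    rintro rfl
    omega
  have hq2 : 1 < q ^ 2 := Nat.one_lt_pow (by norm_num) (by omega)
  have h3 : q ∣ e + 1 := by
    have h4 : q ^ 2 = N * e + 1 := by omega
    have h5 : e + 1 + q * (k * e) = q ^ 2 := by rw [h4, hN']; ring
    have h6 : q ∣ q ^ 2 := dvd_pow_self q (by norm_num)
    rw [← h5] at h6
    exact (Nat.dvd_add_left (Dvd.intro _ rfl)).mp h6
  have h4 : q ≤ e + 1 := Nat.le_of_dvd (by omega) h3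
  obtain ⟨j, rfl⟩ : ∃ j, q = j + 1 := ⟨q - 1, by omega⟩
  have h5 : (j + 1) ^ 2 - 1 = j * (j + 2) := by
    have : (j + 1) ^ 2 = j * (j + 2) + 1 := by ring
    omega
  rw [h5] at he
  have h6 : j ≤ e := by omega
  have hj : 0 < j := by omega
  have h7 : N * j ≤ (j + 2) * j := by
    calc N * j ≤ N * e := Nat.mul_le_mul_left _ h6
      _ = (j + 2) * j := by rw [← he]; ring
  have h8 : N ≤ j + 2 := Nat.le_of_mul_le_mul_right h7 hj
  have h9 : j + 1 ≤ (j + 1) * k := Nat.le_mul_of_pos_right _ (Nat.pos_of_ne_zero hk0)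
  omega

/-- arithmetic: `N ≡ 1` modulo `q ^ 3`, `N ∣ (q ^ 2 - 1) (q ^ 3 + 1)` -/
theorem arith_three {q N : ℕ} (hq : 2 ≤ q) (h1 : N ∣ (q ^ 2 - 1) * (q ^ 3 + 1)) (h2 : q ^ 3 ∣ N - 1) (hN : 1 < N) :
    N = q ^ 3 + 1 := by
  obtain ⟨e, he⟩ := h1
  obtain ⟨k, hk⟩ := h2
  have hN' : N = q ^ 3 * k + 1 := by omega
  have hk0 : k ≠ 0 := by
    rintro rfl
    omega
  have hq2 : 1 < q ^ 2 := Nat.one_lt_pow (by norm_num) (by omega)
  obtain ⟨w, hw⟩ : ∃ w, q ^ 2 = w + 1 := ⟨q ^ 2 - 1, by omega⟩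
  have hw0 : 0 < w := by omega
  rw [hw, Nat.add_sub_cancel] at he
  have h3 : (e : ℤ) ≡ w [ZMOD (q ^ 3 : ℕ)] := by
    rw [Int.modEq_iff_dvd]
    refine ⟨(k : ℤ) * e - w, ?_⟩
    have h4 : (w : ℤ) * ((q : ℤ) ^ 3 + 1) = ((q : ℤ) ^ 3 * k + 1) * e := by
      have := congrArg (Nat.cast (R := ℤ)) he
      rw [hN'] at this
      push_cast at this
      exact this
    push_cast
    linear_combination h4
  have hwlt : w < q ^ 3 := by
    have : q ^ 2 ≤ q ^ 3 := Nat.pow_le_pow_right (by omega) (by norm_num)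
    omega
  have h4 : w ≤ e := by
    have h5 := (Int.natCast_modEq_iff.mp h3)
    unfold Nat.ModEq at h5
    rw [Nat.mod_eq_of_lt hwlt] at h5
    calc w = e % q ^ 3 := h5.symm
      _ ≤ e := Nat.mod_le _ _
  have h7 : N * w ≤ (q ^ 3 + 1) * w := by
    calc N * w ≤ N * e := Nat.mul_le_mul_left _ h4
      _ = (q ^ 3 + 1) * w := by rw [← he]; ring
  have h8 : N ≤ q ^ 3 + 1 := Nat.le_of_mul_le_mul_right h7 hw0
  have h9 : q ^ 3 ≤ q ^ 3 * k := Nat.le_mul_of_pos_right _ (Nat.pos_of_ne_zero hk0)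
  omega

/-- arithmetic: `λ ≡ 1` modulo `Q` and `c λ = Q + 1` with `c ≥ 2` -/
theorem lambda_one {Q l c : ℕ} (hQ : 2 ≤ Q) (h1 : Q ∣ l - 1) (hl : 0 < l) (h2 : c * l = Q + 1) (hc : 2 ≤ c) : l = 1 := by
  by_contra h
  have h3 : Q ≤ l - 1 := Nat.le_of_dvd (by omega) h1
  have h4 : 2 * l ≤ c * l := Nat.mul_le_mul_right _ hc
  omega

theorem three_not_dvd_suzuki {m : ℕ} :
    ¬ 3 ∣ (2 ^ (2 * m + 1)) ^ 2 * ((2 ^ (2 * m + 1)) ^ 2 + 1) * (2 ^ (2 * m + 1) - 1) := by
  have h1 : 2 ^ (2 * m + 1) % 3 = 2 := by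
    rw [pow_succ, pow_mul, Nat.mul_mod, Nat.pow_mod]
    norm_num
  set q := 2 ^ (2 * m + 1) with hq
  have hq1 : 1 ≤ q := Nat.one_le_two_pow
  intro h
  have h3 : Nat.Prime 3 := by norm_num
  rcases h3.dvd_mul.mp h with h | h
  · rcases h3.dvd_mul.mp h with h | h
    · have := h3.dvd_of_dvd_pow h
      omega
    · have h4 : (q ^ 2 + 1) % 3 = 2 := by
        rw [Nat.add_mod, Nat.pow_mod, h1]
      omega
  · omega

variable {G : Type u} [Group G] [Finite G] {Ω : Type v} [Fintype Ω] [MulAction G Ω]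

omit [Finite G] [Fintype Ω] in
/-- If only one conjugate of `Δ` goes through each point, then `Δ` is a block. -/
theorem isBlock {Δ : Set Ω} (h : ∀ β : Ω, (Same.Bl G Δ β).ncard = 1) : IsBlock G Δ := by
  intro g₁ g₂ hne
  rw [Set.disjoint_left]
  intro β h1 h2
  apply hne
  obtain ⟨c, hc⟩ := Set.ncard_eq_one.mp (h β)
  have h3 : (g₁ : G ⧸ stabilizer G Δ) ∈ Same.Bl G Δ β := ⟨g₁, rfl, h1⟩
  have h4 : (g₂ : G ⧸ stabilizer G Δ) ∈ Same.Bl G Δ β := ⟨g₂, rfl, h2⟩
  rw [hc, Set.mem_singleton_iff] at h3 h4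
  have h5 : (g₁ : G ⧸ stabilizer G Δ) = g₂ := h3.trans h4.symm
  rw [QuotientGroup.eq, mem_stabilizer_iff, mul_smul, inv_smul_eq_iff] at h5
  exact h5.symm

/-- **Case A.** -/
theorem caseA [IsSimpleGroup G] (hnc : ∃ a b : G, a * b ≠ b * a) [IsPretransitive G Ω] {p : ℕ} [Fact p.Prime]
    (hp5 : 5 ≤ p) (hΩ : Fintype.card Ω = 3 * p) (P : Sylow p G)
    (hN : Nat.card (Subgroup.normalizer ((P : Subgroup G) : Set G)) = 2 * p) (S : Sylow 2 G) {f : ℕ}
    (hf : f = 1 ∨ f = 3) {Δ : Set Ω} (h : Same S Δ) (hΔ : Δ.ncard = f) {α : Ω}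
    (hα : ∀ s ∈ (S : Subgroup G), s • α = α) :
    ¬ IsPreprimitive G Ω ∧ ∃ (F : Type) (_ : Field F) (_ : Fintype F) (m : ℕ), Fintype.card F = 2 ^ m ∧
      p = 2 ^ m + 1 ∧ Nonempty (G ≃* Matrix.ProjectiveSpecialLinearGroup (Fin 2) F) := by
  have hpp : p.Prime := Fact.out
  have hΩ' : Nat.card Ω = 3 * p := by rw [Nat.card_eq_fintype_card, hΩ]
  have hmul : ∀ β : Ω, 3 * p * (Same.Bl G Δ β).ncard = f * (stabilizer G Δ).index := by
    intro β
    rw [← hΩ', ← hΔ]
    exact Same.card_mul_lambda β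
  have hmulα := hmul α
  have hlm := h.lambda_mod hα
  have him := h.index_mod
  set N := (stabilizer G Δ).index with hNdef
  set l := (Same.Bl G Δ α).ncard with hl
  have hf0 : 0 < f := by rcases hf with rfl | rfl <;> norm_num
  have hN0 : 0 < N := Nat.pos_of_ne_zero Subgroup.index_ne_zero_of_finite
  have hl0 : 0 < l := by
    rcases Nat.eq_zero_or_pos l with h0 | h0
    · rw [h0, mul_zero] at hmulα
      have := Nat.mul_pos hf0 hN0
      omega
    · exact h0
  have hN1 : 1 < N := by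
    by_contra hcon
    have hN1 : N = 1 := by omega
    rw [hN1, mul_one] at hmulα
    have h1 : 3 * p ≤ 3 * p * l := Nat.le_mul_of_pos_right _ hl0
    rcases hf with rfl | rfl <;> omega
  have hMtop : stabilizer G Δ ≠ ⊤ := by
    intro htop
    rw [hNdef, htop, Subgroup.index_top] at hN1
    omega
  -- `N` is odd
  have hNodd : ¬ 2 ∣ N := by
    intro hd
    have h1 : 2 ∣ (S : Subgroup G).index := hd.trans (Subgroup.index_dvd_of_le h.le_stab)
    exact S.not_dvd_index h1
  have hNG : N ∣ Nat.card G := Subgroup.index_dvd_card _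
  have hSc := S.card_eq_multiplicity
  have hSc' : Nat.card (S : Subgroup G) = 2 ^ (Nat.card G).factorization 2 := hSc
  -- Sylow
  have hsyl : ∃ j, (1 + p * j) * (2 * p) = Nat.card G := by
    have h1 := card_sylow_modEq_one p G
    have h2 : Nat.card (Sylow p G) = (Subgroup.normalizer ((P : Subgroup G) : Set G)).index :=
      P.card_eq_index_normalizer
    have h3 := Subgroup.card_mul_index (Subgroup.normalizer ((P : Subgroup G) : Set G))
    rw [hN, ← h2] at h3
    have h4 : 0 < Nat.card (Sylow p G) := Nat.card_pos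
    obtain ⟨j, hj⟩ := (Nat.modEq_iff_dvd' h4).mp h1.symm
    refine ⟨j, ?_⟩
    rw [← h3, ← hj, mul_comm]
    congr 1
    omega
  rcases Cfsg.Agent.S0222.result hnc _ (h.stronglyEmbedded hMtop) with
    ⟨F, _, _, hchar, h4, ⟨e⟩⟩ | ⟨-, m, hm, hcard⟩ | ⟨F, _, _, q, hF, hq, h4, ⟨e⟩⟩
  · obtain ⟨n, -, hn⟩ := FiniteField.card F 2
    have heven : Even (Fintype.card F) := by
      rw [hn]
      exact (Nat.even_pow.mpr ⟨even_two, n.pos.ne'⟩)
    have hcard := Cfsg.Agent.SmallSimple.PSLTwoPart.card_psl_two_even heven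
    rw [← Nat.card_congr e.toEquiv] at hcard
    set q := Fintype.card F with hq
    have hq2 : 1 < q ^ 2 := Nat.one_lt_pow (by norm_num) (by omega)
    have hodd2 : ¬ 2 ∣ q ^ 2 - 1 := by
      have h5 : 2 ∣ q ^ 2 := (even_iff_two_dvd.mp heven).trans (dvd_pow_self q two_ne_zero)
      omega
    have hSq : Nat.card (S : Subgroup G) = q := by
      rw [hSc', hcard, Nat.factorization_mul (by omega) (by omega)]
      simp only [Finsupp.coe_add, Pi.add_apply]
      rw [Nat.factorization_eq_zero_of_not_dvd hodd2, add_zero, hn, Nat.Prime.factorization_pow Nat.prime_two]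
      simp
    rw [hSq] at hlm him
    have hNd : N ∣ q ^ 2 - 1 := by
      rw [hcard] at hNG
      have hcop : Nat.Coprime N q := by
        rw [hn]
        exact Nat.Coprime.pow_right _ ((Nat.Prime.coprime_iff_not_dvd Nat.prime_two).mpr hNodd).symm
      exact hcop.dvd_of_dvd_mul_left hNG
    have hNq := arith_two (by omega) hNd him hN1
    rw [hNq] at hmulα
    rcases hf with rfl | rfl
    · exfalso
      have hl1 : l = 1 := by
        apply lambda_one (Q := q) (c := 3 * p) (by omega) hlm hl0 (by omega) (by omega)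
      rw [hl1] at hmulα
      obtain ⟨j, hj⟩ := hsyl
      rw [hcard] at hj
      obtain ⟨w, hw⟩ : ∃ w, q = w + 1 := ⟨q - 1, by omega⟩
      have e1 : q ^ 2 - 1 = w * (q + 1) := by
        have : q ^ 2 = w * (q + 1) + 1 := by rw [hw]; ring
        omega
      rw [e1, show q + 1 = 3 * p by omega] at hj
      have e2 : (1 + p * j) * 2 = q * w * 3 := by
        have hp0 : 0 < p := by omega
        apply Nat.eq_of_mul_eq_mul_right hp0
        linear_combination hj
      -- `q = 3 p - 1`, `w = 3 p - 2`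
      obtain ⟨p', hp'⟩ : ∃ p', p = p' + 1 := ⟨p - 1, by omega⟩
      have e3 : q = 3 * p' + 2 := by omega
      have e4 : w = 3 * p' + 1 := by omega
      rw [e3, e4] at e2
      have e5 : (p : ℤ) ∣ 4 := by
        refine ⟨2 * j - 27 * (p' : ℤ), ?_⟩
        have e2' : ((1 : ℤ) + p * j) * 2 = (3 * p' + 2) * (3 * p' + 1) * 3 := by exact_mod_cast e2
        have hp'' : (p : ℤ) = p' + 1 := by exact_mod_cast hp'
        rw [hp''] at e2' ⊢
        linear_combination -e2'
      have e6 : p ∣ 4 := by exact_mod_cast e5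
      have := Nat.le_of_dvd (by norm_num) e6
      have : p = 5 ∨ 5 < p := by omega
      omega
    · have hmulα' : p * l = q + 1 := by
        have : 3 * (p * l) = 3 * (q + 1) := by rw [← hmulα]; ring
        omega
      have hl1 : l = 1 := lambda_one (Q := q) (c := p) (by omega) hlm hl0 hmulα' (by omega)
      rw [hl1, mul_one] at hmulα'
      refine ⟨?_, F, inferInstance, inferInstance, n, hn, by rw [hmulα', hn], ⟨e⟩⟩
      intro hprim
      have hb : ∀ β : Ω, (Same.Bl G Δ β).ncard = 1 := by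
        intro β
        have h5 := hmul β
        rw [hNq, ← hmulα'] at h5
        have h6 : 0 < 3 * p := by omega
        apply Nat.eq_of_mul_eq_mul_left h6
        rw [h5, mul_one]
      rcases hprim.isTrivialBlock_of_isBlock (isBlock hb) with h5 | h5
      · have := Set.ncard_le_one_iff_subsingleton.mpr h5
        omega
      · rw [h5, Set.ncard_univ, hΩ'] at hΔ
        omega
  · exfalso
    have h5 : 3 ∣ Nat.card G := by
      have h6 : Nat.card Ω ∣ Nat.card G := by
        rw [← index_stabilizer_of_transitive G α]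
        exact Subgroup.index_dvd_card _
      rw [hΩ'] at h6
      exact (Dvd.intro p rfl).trans h6
    rw [hcard] at h5
    exact three_not_dvd_suzuki h5
  · exfalso
    have hF2 : Fintype.card F ≠ 0 := Fintype.card_ne_zero
    obtain ⟨r, hr⟩ := CharP.exists F
    obtain ⟨n, hrp, hn⟩ := FiniteField.card F r
    have hr2 : r = 2 := by
      have h5 : 2 ∣ r ^ (n : ℕ) := by
        rw [← hn, hF]
        exact (even_iff_two_dvd.mp hq).trans (dvd_pow_self q two_ne_zero)
      exact ((Nat.prime_dvd_prime_iff_eq Nat.prime_two hrp).mp (Nat.prime_two.dvd_of_dvd_pow h5)).symm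
    obtain ⟨k, hk⟩ : ∃ k, q = 2 ^ k := by
      have h6 : q ∣ 2 ^ (n : ℕ) := by
        rw [← hr2, ← hn, hF]
        exact dvd_pow_self q two_ne_zero
      obtain ⟨k, -, hk⟩ := (Nat.dvd_prime_pow Nat.prime_two).mp h6
      exact ⟨k, hk⟩
    obtain ⟨t, ht⟩ : ∃ t, q = t + 1 := ⟨q - 1, by omega⟩
    have hcard := Cfsg.Agent.HKS.EndOrd.card_psu_three (F := F) (t := t) (by rw [hF, ht])
    rw [← ht] at hcard
    rw [← Nat.card_congr e.toEquiv] at hcard
    have e1 : t * ((t + 2) ^ 2 * (t ^ 2 + t + 1)) = (q ^ 2 - 1) * (q ^ 3 + 1) := by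
      have e2 : q ^ 2 - 1 = t * (t + 2) := by
        have : q ^ 2 = t * (t + 2) + 1 := by rw [ht]; ring
        omega
      rw [e2, ht]
      ring
    have hcard' : Nat.gcd 3 (q + 1) * Nat.card G = q ^ 3 * ((q ^ 2 - 1) * (q ^ 3 + 1)) := by
      have e3 : q + 1 = t + 2 := by omega
      rw [← e1, e3]
      exact hcard
    have hq2 : 1 < q ^ 2 := Nat.one_lt_pow (by norm_num) (by omega)
    have hqe : 2 ∣ q := even_iff_two_dvd.mp hq
    have hodd2 : ¬ 2 ∣ (q ^ 2 - 1) * (q ^ 3 + 1) := by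
      intro hd
      have h5 : 2 ∣ q ^ 2 := hqe.trans (dvd_pow_self q two_ne_zero)
      have h6 : 2 ∣ q ^ 3 := hqe.trans (dvd_pow_self q (by norm_num))
      rcases (Nat.Prime.dvd_mul Nat.prime_two).mp hd with h7 | h7 <;> omega
    have hg : ¬ 2 ∣ Nat.gcd 3 (q + 1) := by
      intro hd
      have := hd.trans (Nat.gcd_dvd_left 3 (q + 1))
      omega
    have hg0 : Nat.gcd 3 (q + 1) ≠ 0 := by
      intro h0
      rw [h0] at hg
      exact hg (dvd_zero 2)
    have hSq : Nat.card (S : Subgroup G) = q ^ 3 := by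
      have h5 : (Nat.gcd 3 (q + 1) * Nat.card G).factorization 2 =
          (q ^ 3 * ((q ^ 2 - 1) * (q ^ 3 + 1))).factorization 2 := by rw [hcard']
      rw [Nat.factorization_mul hg0 Nat.card_pos.ne', Nat.factorization_mul (by positivity)
        (by intro h0; rw [h0] at hodd2; exact hodd2 (dvd_zero 2))] at h5
      simp only [Finsupp.coe_add, Pi.add_apply] at h5
      rw [Nat.factorization_eq_zero_of_not_dvd hodd2, Nat.factorization_eq_zero_of_not_dvd hg, add_zero,
        zero_add, hk, ← pow_mul, Nat.Prime.factorization_pow Nat.prime_two] at h5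
      rw [hSc', h5, hk, ← pow_mul]
      simp
    rw [hSq] at hlm him
    have hNd : N ∣ (q ^ 2 - 1) * (q ^ 3 + 1) := by
      have h5 : N ∣ q ^ 3 * ((q ^ 2 - 1) * (q ^ 3 + 1)) := by
        rw [← hcard']
        exact hNG.mul_left _
      have hcop : Nat.Coprime N (q ^ 3) := by
        rw [hk, ← pow_mul]
        exact Nat.Coprime.pow_right _ ((Nat.Prime.coprime_iff_not_dvd Nat.prime_two).mpr hNodd).symm
      exact hcop.dvd_of_dvd_mul_left h5
    have hNq := arith_three (by omega) hNd him hN1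
    rw [hNq] at hmulα
    have hq3 : 2 ≤ q ^ 3 := by
      calc 2 ≤ q := by omega
        _ ≤ q ^ 3 := Nat.le_self_pow (by norm_num) q
    have hfac : q ^ 3 + 1 = (q + 1) * (t ^ 2 + t + 1) := by rw [ht]; ring
    have hb1 : 5 ≤ q + 1 := by omega
    have hb2 : 5 ≤ t ^ 2 + t + 1 := by
      have : 3 ≤ t := by omega
      nlinarith
    rcases hf with rfl | rfl
    · have hl1 : l = 1 := lambda_one (Q := q ^ 3) (c := 3 * p) (by omega) hlm hl0 (by omega) (by omega)
      rw [hl1, hfac] at hmulα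
      have h5 : p ∣ (q + 1) * (t ^ 2 + t + 1) := ⟨3, by linarith⟩
      rcases (Nat.Prime.dvd_mul hpp).mp h5 with ⟨a, ha⟩ | ⟨a, ha⟩
      · rw [ha] at hmulα
        have h6 : a * (t ^ 2 + t + 1) = 3 := by
          apply Nat.eq_of_mul_eq_mul_left hpp.pos
          linarith
        have h7 : 0 < a := by
          rcases Nat.eq_zero_or_pos a with h0 | h0
          · rw [h0] at h6; omega
          · exact h0
        have := Nat.le_mul_of_pos_left (t ^ 2 + t + 1) h7
        omega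
      · rw [ha] at hmulα
        have h6 : a * (q + 1) = 3 := by
          apply Nat.eq_of_mul_eq_mul_left hpp.pos
          linarith
        have h7 : 0 < a := by
          rcases Nat.eq_zero_or_pos a with h0 | h0
          · rw [h0] at h6; omega
          · exact h0
        have := Nat.le_mul_of_pos_left (q + 1) h7
        omega
    · have hmulα' : p * l = q ^ 3 + 1 := by
        have : 3 * (p * l) = 3 * (q ^ 3 + 1) := by rw [← hmulα]; ring
        omega
      have hl1 : l = 1 := lambda_one (Q := q ^ 3) (c := p) (by omega) hlm hl0 hmulα' (by omega)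
      rw [hl1, mul_one, hfac] at hmulα'
      rcases (Nat.prime_mul_iff.mp (hmulα' ▸ hpp)) with ⟨-, h5⟩ | ⟨-, h5⟩ <;> omega

end Cfsg.Agent.H103.ThreeP
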