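import Mathlib
import Cfsg.Agent.ClassicalGeometry.PSL2ElemOrder
import Cfsg.Agent.ClassicalGeometry.PSL2Basic
import Cfsg.Agent.SmallSimple.PSLTwoPart

/-!
# `PSL₂(q)`, `q` odd: the Sylow subgroups of the defining characteristic are abelian and trivial intersection,
and there is an abelian subgroup of order `(q - 1) / 2`
-/

set_option autoImplicit false

open Cfsg

namespace Cfsg.Agent.H103.ThreeP.PslFacts

open Matrix Cfsg.Agent.ClassicalGeometry.PSL2Basic Cfsg.Agent.LieClassical.SLTwoUnipotent

variable {F : Type*} [Field F] [Fintype F]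

/-- The Sylow subgroups in the defining characteristic are abelian. -/
theorem sylow_comm' (p : ℕ) [Fact p.Prime] [CharP F p] (P : Sylow p (ProjectiveSpecialLinearGroup (Fin 2) F)) :
    ∀ a ∈ P, ∀ b ∈ P, a * b = b * a := by
  set π := QuotientGroup.mk' (Subgroup.center (Matrix.SpecialLinearGroup (Fin 2) F)) with hπ
  have hsurj : Function.Surjective π := QuotientGroup.mk'_surjective _
  set P₀ := (upperUnipSylowSL F p).mapSurjective hsurj with hP₀
  obtain ⟨g, hg⟩ := MulAction.exists_smul_eq (ProjectiveSpecialLinearGroup (Fin 2) F) P₀ P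
  have hmem : ∀ a ∈ P, ∃ A ∈ upperUnipSL F, a = g * π A * g⁻¹ := by
    intro a ha
    have ha' : a ∈ (P : Subgroup (ProjectiveSpecialLinearGroup (Fin 2) F)) := ha
    rw [← hg, Sylow.coe_subgroup_smul, Subgroup.mem_pointwise_smul_iff_inv_smul_mem, ← map_inv,
      MulAut.smul_def, MulAut.conj_apply, inv_inv] at ha'
    obtain ⟨A, hA, hA'⟩ := ha'
    refine ⟨A, hA, ?_⟩
    rw [hA']
    group
  intro a ha b hb
  obtain ⟨A, hA, rfl⟩ := hmem a ha
  obtain ⟨B, hB, rfl⟩ := hmem b hb
  have h1 : A * B = B * A := by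
    rw [eq_u_of_mem_upperUnipSL hA, eq_u_of_mem_upperUnipSL hB, ← u_add, ← u_add, add_comm]
  calc g * π A * g⁻¹ * (g * π B * g⁻¹) = g * (π A * π B) * g⁻¹ := by group
    _ = g * (π B * π A) * g⁻¹ := by rw [← map_mul, h1, map_mul]
    _ = _ := by group

/-- The split torus. -/
noncomputable def diagHom : Fˣ →* SpecialLinearGroup (Fin 2) F where
  toFun a := ⟨!![(a : F), 0; 0, ((a⁻¹ : Fˣ) : F)], by simp [Matrix.det_fin_two]⟩
  map_one' := by
    ext i j
    fin_cases i <;> fin_cases j <;> simp
  map_mul' := by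
    intro a b
    apply Subtype.ext
    change (!![((a * b : Fˣ) : F), 0; 0, (((a * b)⁻¹ : Fˣ) : F)] : Matrix (Fin 2) (Fin 2) F) =
      !![(a : F), 0; 0, ((a⁻¹ : Fˣ) : F)] * !![(b : F), 0; 0, ((b⁻¹ : Fˣ) : F)]
    ext i j
    fin_cases i <;> fin_cases j <;> simp [Matrix.mul_apply, Fin.sum_univ_two, mul_comm]

omit [Fintype F] in
theorem diagHom_val (a : Fˣ) : (diagHom a).1 = !![(a : F), 0; 0, ((a⁻¹ : Fˣ) : F)] := rfl

theorem exists_split_torus (h2 : (2 : F) ≠ 0) : ∃ T : Subgroup (ProjectiveSpecialLinearGroup (Fin 2) F),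
    (∀ a ∈ T, ∀ b ∈ T, a * b = b * a) ∧ Nat.card T * 2 = Fintype.card F - 1 := by
  classical
  let g : Fˣ →* ProjectiveSpecialLinearGroup (Fin 2) F :=
    (QuotientGroup.mk' (Subgroup.center (Matrix.SpecialLinearGroup (Fin 2) F))).comp diagHom
  refine ⟨g.range, ?_, ?_⟩
  · rintro _ ⟨a, rfl⟩ _ ⟨b, rfl⟩
    rw [← map_mul, mul_comm, map_mul]
  · have h1 : ∀ a : Fˣ, a ∈ g.ker ↔ a = 1 ∨ a = -1 := by
      intro a
      rw [MonoidHom.mem_ker]
      change (QuotientGroup.mk (diagHom a) : ProjectiveSpecialLinearGroup (Fin 2) F) = 1 ↔ _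
      rw [QuotientGroup.eq_one_iff, mem_center_SL2_iff]
      constructor
      · rintro (h | h)
        · left
          have := congrArg (fun A : SpecialLinearGroup (Fin 2) F => A.1 0 0) h
          apply Units.ext
          simpa [diagHom_val] using this
        · right
          have := congrArg (fun A : SpecialLinearGroup (Fin 2) F => A.1 0 0) h
          apply Units.ext
          simpa [diagHom_val] using this
      · rintro (rfl | rfl)
        · left
          rw [map_one]
        · right
          apply Subtype.ext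
          rw [diagHom_val]
          ext i j
          fin_cases i <;> fin_cases j <;> simp
    have h3 : Nat.card g.ker = 2 := by
      have h4 : (g.ker : Set Fˣ) = {1, -1} := by
        ext a
        exact h1 a
      have h5 : (g.ker : Set Fˣ).ncard = Nat.card g.ker := rfl
      rw [← h5, h4, Set.ncard_pair]
      intro h
      apply h2
      have h6 := congrArg Units.val h
      rw [Units.val_neg, Units.val_one] at h6
      linear_combination h6
    have h4 := Subgroup.card_mul_index g.ker
    rw [Subgroup.index_ker, h3, Nat.card_units, Nat.card_eq_fintype_card (α := F)] at h4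
    rw [mul_comm]
    exact h4

variable {G : Type*} [Group G] [Finite G] (e : G ≃* ProjectiveSpecialLinearGroup (Fin 2) F)

include e

/-- Distinct Sylow subgroups in the defining characteristic intersect trivially. -/
theorem sylow_ti (p : ℕ) [Fact p.Prime] [CharP F p] (P Q : Sylow p G) (x : G) (hx : x ≠ 1)
    (hP : x ∈ (P : Subgroup G)) (hQ : x ∈ (Q : Subgroup G)) : P = Q := by
  have hs : Function.Surjective e.toMonoidHom := e.surjective
  have h1 := Cfsg.Agent.ClassicalGeometry.PSL2ElemOrder.sylow_eq_of_mem p (P.mapSurjective hs) (Q.mapSurjective hs)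
    (e x) (by
      intro h
      exact hx (e.injective (by rw [h, map_one]))) ⟨x, hP, rfl⟩ ⟨x, hQ, rfl⟩
  have h2 : (P : Subgroup G).map e.toMonoidHom = (Q : Subgroup G).map e.toMonoidHom := by
    rw [← Sylow.coe_mapSurjective hs P, ← Sylow.coe_mapSurjective hs Q, h1]
  apply Sylow.ext
  exact Subgroup.map_injective e.injective h2

/-- The Sylow subgroups in the defining characteristic are abelian. -/
theorem sylow_comm (p : ℕ) [Fact p.Prime] [CharP F p] (P : Sylow p G) :
    ∀ a ∈ (P : Subgroup G), ∀ b ∈ (P : Subgroup G), a * b = b * a := by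
  have hs : Function.Surjective e.toMonoidHom := e.surjective
  intro a ha b hb
  apply e.injective
  rw [map_mul, map_mul]
  exact sylow_comm' p (P.mapSurjective hs) (e a) ⟨a, ha, rfl⟩ (e b) ⟨b, hb, rfl⟩

omit [Finite G] in
/-- An abelian subgroup of order `(q - 1) / 2`. -/
theorem split_torus (h2 : (2 : F) ≠ 0) : ∃ T : Subgroup G,
    (∀ a ∈ T, ∀ b ∈ T, a * b = b * a) ∧ Nat.card T * 2 = Fintype.card F - 1 := by
  obtain ⟨T, hT, hc⟩ := exists_split_torus (F := F) h2
  refine ⟨T.comap e.toMonoidHom, ?_, ?_⟩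
  · intro a ha b hb
    apply e.injective
    rw [map_mul, map_mul]
    exact hT _ ha _ hb
  · have h3 : T = (T.comap e.toMonoidHom).map e.toMonoidHom := by
      rw [Subgroup.map_comap_eq_self_of_surjective e.surjective]
    rw [← hc]
    congr 1
    nth_rewrite 2 [h3]
    exact Nat.card_congr ((T.comap e.toMonoidHom).equivMapOfInjective e.toMonoidHom e.injective).toEquiv

end Cfsg.Agent.H103.ThreeP.PslFacts
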