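import Mathlib
import Cfsg.Agent.Lib.PSL2Torus
import Cfsg.Agent.SmallSimple.PSLTwoPart
import Cfsg.Agent.H656.DihedralSimple
import Cfsg.Agent.H103.ThreeP.Torus
import Cfsg.Agent.H103.ThreeP.Cases
import Cfsg.Agent.H103.ThreeP.CaseA
import Cfsg.Agent.H103.ThreeP.Count
import Cfsg.Agent.H103.ThreeP.PslFacts

/-!
# Degree `3 p`, dihedral Sylow `2`-subgroups
-/

set_option autoImplicit false

open Cfsg

namespace Cfsg.Agent.H103.ThreeP

open MulAction Matrix Cfsg.Agent.H656.DihedralP

universe u v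

variable {G : Type u} [Group G] [Finite G] [IsSimpleGroup G]

/-- Sylow subgroups of `PSL₂(q)` in the defining characteristic. -/
theorem card_sylow_eq {F : Type*} [Field F] [Fintype F] (hodd : Odd (Fintype.card F)) {r a : ℕ}
    [Fact r.Prime] [CharP F r] (ha : Fintype.card F = r ^ a) (e : G ≃* ProjectiveSpecialLinearGroup (Fin 2) F)
    (hcard : 2 * Nat.card G = Fintype.card F * (Fintype.card F ^ 2 - 1)) (Q : Sylow r G) :
    Nat.card Q = Fintype.card F ∧ Nat.card (Sylow r G) = Fintype.card F + 1 := by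
  classical
  have hr : r.Prime := Fact.out
  set q := Fintype.card F with hq
  have hq2 : 2 ≤ q := Fintype.one_lt_card
  have hq3 : 3 ≤ q := by
    have := Nat.odd_iff.mp hodd
    omega
  have ha0 : a ≠ 0 := by
    rintro rfl
    rw [pow_zero] at ha
    omega
  have hr2 : r ≠ 2 := by
    rintro rfl
    rw [ha] at hodd
    exact (Nat.not_even_iff_odd.mpr hodd) ((Nat.even_pow.mpr ⟨even_two, ha0⟩))
  obtain ⟨w, hw⟩ : ∃ w, q ^ 2 = w + 1 := ⟨q ^ 2 - 1, by
    have : 0 < q ^ 2 := by positivity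
    omega⟩
  have hw' : q ^ 2 - 1 = w := by omega
  have hrw : Nat.Coprime r w := by
    rw [Nat.Prime.coprime_iff_not_dvd hr]
    intro h
    have h1 : r ∣ q ^ 2 := by
      rw [ha, ← pow_mul]
      exact dvd_pow_self _ (by positivity)
    rw [hw] at h1
    exact hr.one_lt.ne' (Nat.dvd_one.mp ((Nat.dvd_add_right h).mp h1))
  have h2q : Nat.Coprime q 2 := (Nat.coprime_two_right).mpr hodd
  have hqG : q ∣ Nat.card G := h2q.dvd_of_dvd_mul_left (by rw [hcard]; exact dvd_mul_right _ _)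
  have hQ : Nat.card Q = q := by
    apply Nat.dvd_antisymm
    · obtain ⟨b, hb⟩ := Q.isPGroup'.exists_card_eq
      have hb' : Nat.card Q = r ^ b := hb
      have h1 : Nat.card Q ∣ q * w := by
        rw [← hw', ← hcard]
        exact (Subgroup.card_subgroup_dvd_card (Q : Subgroup G)).mul_left 2
      rw [hb'] at h1 ⊢
      exact (Nat.Coprime.pow_left b hrw).dvd_of_dvd_mul_right h1
    · rw [ha]
      exact Q.pow_dvd_card_of_pow_dvd_card (by rw [← ha]; exact hqG)
  refine ⟨hQ, ?_⟩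
  set N := Nat.card (Sylow r G) with hN
  have h1 : N * Nat.card ↥(Subgroup.normalizer ((Q : Subgroup G) : Set G)) = Nat.card G := by
    have h2 : N = (Subgroup.normalizer ((Q : Subgroup G) : Set G)).index := Q.card_eq_index_normalizer
    rw [h2, mul_comm]
    exact Subgroup.card_mul_index _
  have h2 : q ∣ Nat.card ↥(Subgroup.normalizer ((Q : Subgroup G) : Set G)) := by
    rw [← hQ]
    exact Subgroup.card_dvd_of_le Subgroup.le_normalizer
  have hNd : N ∣ q ^ 2 - 1 := by
    obtain ⟨k, hk⟩ := h2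
    refine ⟨2 * k, ?_⟩
    apply Nat.eq_of_mul_eq_mul_left (show 0 < q by omega)
    rw [← hcard, ← h1, hk]
    ring
  have hqN : q ∣ N - 1 := by
    have h3 := dvd_orbit_sub_one (PslFacts.sylow_ti e r) ⊤ Q le_top Q le_rfl
    have h4 : (orbit (⊤ : Subgroup G) Q).ncard = N := by
      have h5 : orbit (⊤ : Subgroup G) Q = Set.univ := by
        ext R
        simp only [Set.mem_univ, iff_true]
        obtain ⟨g, hg⟩ := exists_smul_eq G Q R
        exact ⟨⟨g, Subgroup.mem_top g⟩, hg⟩
      rw [h5, Set.ncard_univ]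
    rw [h4] at h3
    have h5 : Nat.card (Q : Subgroup G) = q := hQ
    rw [h5] at h3
    exact h3
  have hN1 : 1 < N := by
    have hN0 : 0 < N := Nat.card_pos
    by_contra hcon
    have hN1 : N = 1 := by omega
    rw [hN1, one_mul] at h1
    have h3 : Subgroup.normalizer ((Q : Subgroup G) : Set G) = ⊤ := Subgroup.eq_top_of_card_eq _ h1
    have h4 : (Q : Subgroup G).Normal := Subgroup.normalizer_eq_top_iff.mp h3
    have h5 : Nat.card (Q : Subgroup G) = q := hQ
    rcases h4.eq_bot_or_eq_top with h6 | h6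
    · rw [h6, Subgroup.card_bot] at h5
      omega
    · rw [h6, Subgroup.card_top] at h5
      rw [h5, mul_comm] at hcard
      have h7 := Nat.eq_of_mul_eq_mul_left (show 0 < q by omega) hcard
      have h8 : 3 ^ 2 ≤ q ^ 2 := Nat.pow_le_pow_left hq3 2
      omega
  exact arith_two hq2 hNd hqN hN1

section Main

variable {Ω : Type v} [Fintype Ω] [MulAction G Ω] [IsPretransitive G Ω] {p : ℕ} [Fact p.Prime] {P : Sylow p G}

omit [Finite G] [IsSimpleGroup G] [Fact p.Prime] in
/-- The point stabilizer has order `|G| / 3 p`. -/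
theorem card_stabilizer (hΩ : Fintype.card Ω = 3 * p) (α : Ω) :
    Nat.card (stabilizer G α) * (3 * p) = Nat.card G := by
  rw [← hΩ, ← Nat.card_eq_fintype_card, ← index_stabilizer_of_transitive G α]
  exact Subgroup.card_mul_index _

/-- `p` does not divide `q`. -/
theorem not_dvd_q (h : Hyp P) (hΩ : Fintype.card Ω = 3 * p) {S : Sylow 2 G} {α : Ω} (hB : CaseB S α)
    {q r a : ℕ} (hr : r.Prime) (ha : q = r ^ a) (hcard : 2 * Nat.card G = q * (q ^ 2 - 1)) (hpq : p ∣ q) :
    False := by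
  classical
  have hpp : p.Prime := Fact.out
  have hp5 := h.five
  have hpr : p = r := (Nat.prime_dvd_prime_iff_eq hpp hr).mp (hpp.dvd_of_dvd_pow (ha ▸ hpq))
  have ha1 : a = 1 := by
    rcases Nat.lt_trichotomy a 1 with h1 | h1 | h1
    · have : a = 0 := by omega
      subst this
      rw [pow_zero] at ha
      rw [ha] at hpq
      exact absurd (Nat.dvd_one.mp hpq) hpp.one_lt.ne'
    · exact h1
    · exfalso
      apply sq_not_dvd h
      have h2 : p ^ 2 ∣ 2 * Nat.card G := by
        rw [hcard, ha, ← hpr]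
        exact (pow_dvd_pow p h1).mul_right _
      have h3 : Nat.Coprime (p ^ 2) 2 := by
        apply Nat.Coprime.pow_left
        rw [Nat.Prime.coprime_iff_not_dvd hpp]
        intro h4
        have := Nat.le_of_dvd (by norm_num) h4
        omega
      exact h3.dvd_of_dvd_mul_left h2
  rw [ha1, pow_one] at ha
  rw [ha, ← hpr] at hcard
  obtain ⟨j, hj⟩ := exists_sylow_card h
  have h1 : 4 * (1 + p * j) = p ^ 2 - 1 := by
    apply Nat.eq_of_mul_eq_mul_left hpp.pos
    rw [← hcard, ← hj]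
    ring
  have hp2 : 0 < p ^ 2 := by positivity
  have h2 : p ^ 2 = 4 * (p * j) + 5 := by omega
  have h3 : p ∣ 5 := by
    have h4 : p ∣ 4 * (p * j) + 5 := by
      rw [← h2]
      exact dvd_pow_self p two_ne_zero
    exact (Nat.dvd_add_right ⟨4 * j, by ring⟩).mp h4
  have h5 : p = 5 := (Nat.prime_dvd_prime_iff_eq hpp (by norm_num)).mp h3
  subst h5
  have hG : Nat.card G = 60 := by omega
  have hH := card_stabilizer (G := G) hΩ α
  rw [hG] at hH
  have hH4 : Nat.card (stabilizer G α) = 4 := by omega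
  have hle : (S : Subgroup G) ≤ stabilizer G α := fun s hs => hB.fix s hs
  obtain ⟨t, ht2, ht4⟩ := hB.four
  have h4 : 4 ≤ Nat.card (S : Subgroup G) := by
    rw [← ht4]
    exact Nat.card_le_card_of_injective _ Subtype.val_injective
  have hSH : (S : Subgroup G) = stabilizer G α := Subgroup.eq_of_le_of_card_ge hle (by rw [hH4]; exact h4)
  have hS4 : Nat.card (S : Subgroup G) = 2 ^ 2 := by rw [hSH, hH4]; norm_num
  have hcomm' : IsMulCommutative (S : Subgroup G) := IsPGroup.isMulCommutative_of_card_eq_prime_sq hS4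
  have hcomm : ∀ a b : (S : Subgroup G), a * b = b * a := hcomm'.is_comm.comm
  have hN : Subgroup.normalizer ((S : Subgroup G) : Set G) ≤ Subgroup.centralizer (S : Set G) := by
    intro n hn
    have h6 : n • α = α := by
      apply hB.uniq
      intro s hs
      have h7 : n⁻¹ * s * n ∈ (S : Subgroup G) := by
        have := (Subgroup.mem_normalizer_iff''.mp hn s).mp hs
        exact this
      have h8 := hB.fix _ h7
      calc s • n • α = n • (n⁻¹ * s * n) • α := by rw [smul_smul, smul_smul]; congr 1; group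
        _ = n • α := by rw [h8]
    have h7 : n ∈ (S : Subgroup G) := by
      rw [hSH]
      exact h6
    rw [Subgroup.mem_centralizer_iff]
    intro y hy
    exact congrArg Subtype.val (hcomm ⟨y, hy⟩ ⟨n, h7⟩)
  have hnorm := Cfsg.Agent.H656.DihedralSimple.normal_of_normalizer_le S hN
  rcases hnorm.eq_bot_or_eq_top with h6 | h6
  · rw [h6, Subgroup.card_bot] at h4
    omega
  · rw [h6, Subgroup.card_top, hG] at hS4
    norm_num at hS4

/-- The orbits of the point stabilizer on the Sylow `r`-subgroups. -/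
theorem orbit_data (hΩ : Fintype.card Ω = 3 * p) (α : Ω) (hp5 : 5 ≤ p) {F : Type*} [Field F] [Fintype F]
    (hodd : Odd (Fintype.card F)) {r a : ℕ}
    [Fact r.Prime] [CharP F r] (ha : Fintype.card F = r ^ a) (e : G ≃* ProjectiveSpecialLinearGroup (Fin 2) F)
    (hcard : 2 * Nat.card G = Fintype.card F * (Fintype.card F ^ 2 - 1)) {b : ℕ}
    (hb : r ^ b ∣ Nat.card (stabilizer G α)) :
    ∃ (U : Sylow r (stabilizer G α)) (Q : Sylow r G) (N : ℕ),
      (U : Subgroup (stabilizer G α)).map (stabilizer G α).subtype ≤ Q ∧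
      r ^ b ∣ Nat.card U ∧
      r ^ b ∣ N - 1 ∧ N ≤ Fintype.card F + 1 ∧ 1 < N ∧
      N * Nat.card ↥(stabilizer G α ⊓ Subgroup.normalizer ((Q : Subgroup G) : Set G)) =
        Nat.card (stabilizer G α) ∧ N * r ^ b ∣ Nat.card (stabilizer G α) := by
  classical
  set H := stabilizer G α with hH
  obtain ⟨U⟩ : Nonempty (Sylow r H) := inferInstance
  have hUp : IsPGroup r ((U : Subgroup H).map H.subtype) := U.isPGroup'.map _
  obtain ⟨Q, hQ⟩ := hUp.exists_le_sylow
  have hUH : (U : Subgroup H).map H.subtype ≤ H := Subgroup.map_subtype_le _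
  have hcU : Nat.card ((U : Subgroup H).map H.subtype) = Nat.card U :=
    (Nat.card_congr ((U : Subgroup H).equivMapOfInjective H.subtype H.subtype_injective).toEquiv).symm
  have hbU : r ^ b ∣ Nat.card U := U.pow_dvd_card_of_pow_dvd_card hb
  have h1 := dvd_orbit_sub_one (PslFacts.sylow_ti e r) H _ hUH Q hQ
  rw [hcU] at h1
  have h2 := orbit_mul H Q
  set N := (orbit H Q).ncard with hN
  obtain ⟨hQc, hsyl⟩ := card_sylow_eq hodd ha e hcard Q
  have hNle : N ≤ Fintype.card F + 1 := by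
    rw [← hsyl, ← Set.ncard_univ]
    exact Set.ncard_le_ncard (Set.subset_univ _)
  have hle : (U : Subgroup H).map H.subtype ≤ H ⊓ Subgroup.normalizer ((Q : Subgroup G) : Set G) :=
    le_inf hUH (hQ.trans Subgroup.le_normalizer)
  refine ⟨U, Q, N, hQ, hbU, hbU.trans h1, hNle, ?_, h2, ?_⟩
  · have hN0 : 0 < N := by
      rw [hN, Set.ncard_pos]
      exact ⟨Q, mem_orbit_self Q⟩
    by_contra hcon
    have hN1 : N = 1 := by omega
    rw [hN1, one_mul] at h2
    have h3 : H ≤ Subgroup.normalizer ((Q : Subgroup G) : Set G) := by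
      have h4 := Subgroup.eq_of_le_of_card_ge (inf_le_left : H ⊓ Subgroup.normalizer ((Q : Subgroup G) : Set G) ≤ H)
        h2.ge
      rw [← h4]
      exact inf_le_right
    have h4 : Subgroup.index (Subgroup.normalizer ((Q : Subgroup G) : Set G)) ∣ H.index :=
      Subgroup.index_dvd_of_le h3
    have h5 : Nat.card (Sylow r G) = (Subgroup.normalizer ((Q : Subgroup G) : Set G)).index :=
      Q.card_eq_index_normalizer
    rw [← h5, hsyl, hH, index_stabilizer_of_transitive, Nat.card_eq_fintype_card, hΩ] at h4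
    have h5 : 2 ∣ Fintype.card F + 1 := by
      obtain ⟨k, hk⟩ := hodd
      exact ⟨k + 1, by omega⟩
    have h6 := h5.trans h4
    have hpo : Odd p := (Fact.out : p.Prime).odd_of_ne_two (by omega)
    have := Nat.odd_iff.mp hpo
    omega
  · rw [← h2]
    apply Nat.mul_dvd_mul_left
    have h3 := Subgroup.card_dvd_of_le hle
    rw [hcU] at h3
    exact hbU.trans h3

/-- The characteristic is three. -/
theorem char_three (h : Hyp P) (hΩ : Fintype.card Ω = 3 * p) (α : Ω) {F : Type*} [Field F] [Fintype F]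
    (hodd : Odd (Fintype.card F)) {r a : ℕ}
    [Fact r.Prime] [CharP F r] (ha : Fintype.card F = r ^ a) (ha0 : a ≠ 0)
    (e : G ≃* ProjectiveSpecialLinearGroup (Fin 2) F)
    (hcard : 2 * Nat.card G = Fintype.card F * (Fintype.card F ^ 2 - 1))
    (hpq : ¬ p ∣ Fintype.card F) (h2 : (2 : F) ≠ 0) : r = 3 := by
  classical
  by_contra hr3
  have hr : r.Prime := Fact.out
  have hpp : p.Prime := Fact.out
  have hp5 := h.five
  set q := Fintype.card F with hq
  have hq2 : 2 ≤ q := Fintype.one_lt_card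
  obtain ⟨w, hw⟩ : ∃ w, q ^ 2 = w + 1 := ⟨q ^ 2 - 1, by
    have : 0 < q ^ 2 := by positivity
    omega⟩
  have hw' : q ^ 2 - 1 = w := by omega
  have hH := card_stabilizer (G := G) hΩ α
  have hH2 : Nat.card (stabilizer G α) * (6 * p) = q * (q ^ 2 - 1) := by
    rw [← hcard, ← hH]
    ring
  have hcop : Nat.Coprime q (6 * p) := by
    rw [ha]
    apply Nat.Coprime.pow_left
    rw [Nat.Prime.coprime_iff_not_dvd hr]
    intro h3
    rcases hr.dvd_mul.mp h3 with h4 | h4
    · have h5 : r ∣ 2 * 3 := h4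
      rcases hr.dvd_mul.mp h5 with h6 | h6
      · have h7 := (Nat.prime_dvd_prime_iff_eq hr Nat.prime_two).mp h6
        subst h7
        rw [ha] at hodd
        exact (Nat.not_even_iff_odd.mpr hodd) ((Nat.even_pow.mpr ⟨even_two, ha0⟩))
      · exact hr3 ((Nat.prime_dvd_prime_iff_eq hr Nat.prime_three).mp h6)
    · have h7 := (Nat.prime_dvd_prime_iff_eq hr hpp).mp h4
      subst h7
      exact hpq (ha ▸ dvd_pow_self _ ha0)
  have hqH : r ^ a ∣ Nat.card (stabilizer G α) := by
    rw [← ha]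
    exact hcop.dvd_of_dvd_mul_right (by rw [hH2]; exact dvd_mul_right _ _)
  obtain ⟨-, -, N, -, -, hN1, hN2, hN3, -, hN5⟩ := orbit_data hΩ α hp5 hodd ha e hcard hqH
  rw [← ha] at hN1 hN5
  have hN : N = q + 1 := by
    have := Nat.le_of_dvd (by omega) hN1
    omega
  have h3 : 6 * p ∣ q - 1 := by
    obtain ⟨k, hk⟩ := hN5
    obtain ⟨j, hj⟩ : ∃ j, q = j + 1 := ⟨q - 1, by omega⟩
    have h5 : q ^ 2 - 1 = (q + 1) * j := by
      have : q ^ 2 = (q + 1) * j + 1 := by rw [hj]; ring
      omega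
    have hj' : q - 1 = j := by omega
    rw [hj']
    refine ⟨k, ?_⟩
    apply Nat.eq_of_mul_eq_mul_left (show 0 < q * (q + 1) by positivity)
    calc q * (q + 1) * j = q * ((q + 1) * j) := by ring
      _ = _ := by rw [← h5, ← hH2, hk, hN]; ring
  obtain ⟨T, hT, hTc⟩ := PslFacts.split_torus e h2
  rw [← hq, ] at hTc
  rw [← hTc] at h3
  have h4 : 3 * p ∣ Nat.card T := by
    obtain ⟨k, hk⟩ := h3
    exact ⟨k, by
      apply Nat.eq_of_mul_eq_mul_right (show 0 < 2 by norm_num)
      rw [hk]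
      ring⟩
  have h5 := card_eq_of_comm h T hT ((Dvd.intro_left 3 rfl).trans h4)
  rw [h5] at h4
  have := Nat.le_of_dvd hpp.pos h4
  omega

/-- arithmetic in characteristic three -/
theorem arith_char_three {u p m : ℕ} (hu : 3 ≤ u) (hm : m ≤ 3) (hm0 : 0 < m)
    (h : (m * u + 1) * (2 * p) ∣ 9 * u ^ 2 - 1) (h3 : 3 ∣ u) :
    (m = 1 ∧ u = 3) ∨ m = 3 := by
  have hu2 : 9 ≤ u ^ 2 := by
    have := Nat.pow_le_pow_left hu 2
    omega
  have h1 : (m * u + 1) ∣ 9 * u ^ 2 - 1 := (Dvd.intro _ rfl).trans h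
  have h1' : ((m * u + 1 : ℕ) : ℤ) ∣ 9 * (u : ℤ) ^ 2 - 1 := by
    have h2 := Int.natCast_dvd_natCast.mpr h1
    have h4 : ((9 * u ^ 2 - 1 : ℕ) : ℤ) = 9 * (u : ℤ) ^ 2 - 1 := by
      rw [Nat.cast_sub (by omega)]
      push_cast
      ring
    rw [h4] at h2
    exact h2
  interval_cases m
  · left
    refine ⟨rfl, ?_⟩
    have h5 : ((1 * u + 1 : ℕ) : ℤ) ∣ 8 := by
      have h6 : (8 : ℤ) = (9 * (u : ℤ) ^ 2 - 1) - ((1 * u + 1 : ℕ) : ℤ) * (9 * (u - 1)) := by
        push_cast
        ring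
      rw [h6]
      exact dvd_sub h1' (dvd_mul_right _ _)
    have h7 : (1 * u + 1) ∣ 8 := by exact_mod_cast h5
    have h8 := Nat.le_of_dvd (by norm_num) h7
    obtain ⟨k, hk⟩ := h3
    have : u = 3 ∨ u = 6 := by omega
    rcases this with h9 | h9
    · exact h9
    · subst h9
      norm_num at h7
  · exfalso
    have h5 : ((2 * u + 1 : ℕ) : ℤ) ∣ 5 := by
      have h6 : (5 : ℤ) = (9 * (u : ℤ) ^ 2 - 1) * 4 - ((2 * u + 1 : ℕ) : ℤ) * (9 * (2 * u - 1)) := by
        push_cast
        ring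
      rw [h6]
      exact dvd_sub (h1'.mul_right _) (dvd_mul_right _ _)
    have h7 : (2 * u + 1) ∣ 5 := by exact_mod_cast h5
    have h8 := Nat.le_of_dvd (by norm_num) h7
    omega
  · right
    rfl

/-- The point stabilizer is not a regular group extended by a Sylow `3`-subgroup. -/
theorem no_regular (h : Hyp P) (hΩ : Fintype.card Ω = 3 * p)
    (hfix : ∀ b : G, orderOf b = 2 → (fixedBy Ω b).ncard = 3) {S : Sylow 2 G} {α : Ω} (hB : CaseB S α)
    {n : ℕ} (hS : Nonempty ((S : Subgroup G) ≃* DihedralGroup n)) {q u : ℕ} (hu : 3 ≤ u) (hq : q = 3 * u)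
    (hp : 2 * p = q - 1) (hcard : 2 * Nat.card G = q * (q ^ 2 - 1))
    {x : G} (hx : x ∈ Subgroup.normalizer ((P : Subgroup G) : Set G)) (hxP : x ∉ (P : Subgroup G))
    (hC : Nat.card (Subgroup.centralizer ({x} : Set G)) = q + 1) [Fact (Nat.Prime 3)]
    (ti : ∀ (P Q : Sylow 3 G) (x : G), x ≠ 1 → x ∈ (P : Subgroup G) → x ∈ (Q : Subgroup G) → P = Q)
    (comm : ∀ (Q : Sylow 3 G), ∀ a ∈ (Q : Subgroup G), ∀ b ∈ (Q : Subgroup G), a * b = b * a)
    (H : Subgroup G) (hH : H = stabilizer G α) (U : Sylow 3 H) (Q : Sylow 3 G)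
    (hUQ : (U : Subgroup H).map H.subtype ≤ Q)
    (hUc : u ∣ Nat.card U)
    (hN : Nat.card ↥(H ⊓ Subgroup.normalizer ((Q : Subgroup G) : Set G)) = u) : False := by
  classical
  have hp0 : 0 < p := (Fact.out : p.Prime).pos
  have hH1 := card_stabilizer (G := G) hΩ α
  rw [← hH] at hH1
  have hHmem : ∀ g : G, g ∈ H ↔ g • α = α := by
    intro g
    rw [hH, mem_stabilizer_iff]
  have hHc : Nat.card H = u * (q + 1) := by
    apply Nat.eq_of_mul_eq_mul_right (show 0 < 6 * p by omega)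
    have h1 : q ^ 2 - 1 = (q + 1) * (q - 1) := by
      obtain ⟨j, hj⟩ : ∃ j, q = j + 1 := ⟨q - 1, by omega⟩
      have : q ^ 2 = (q + 1) * j + 1 := by rw [hj]; ring
      have hj' : q - 1 = j := by omega
      rw [hj']
      omega
    calc Nat.card H * (6 * p) = 2 * (Nat.card H * (3 * p)) := by ring
      _ = q * ((q + 1) * (q - 1)) := by rw [hH1, hcard, h1]
      _ = u * (q + 1) * (6 * p) := by rw [← hp, hq]; ring
  -- the Sylow `3`-subgroup of the stabilizer is `H ∩ N(Q)`
  have hUH : (U : Subgroup H).map H.subtype ≤ H := Subgroup.map_subtype_le _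
  have hle : (U : Subgroup H).map H.subtype ≤ H ⊓ Subgroup.normalizer ((Q : Subgroup G) : Set G) :=
    le_inf hUH (hUQ.trans Subgroup.le_normalizer)
  have hcU : Nat.card ((U : Subgroup H).map H.subtype) = Nat.card U :=
    (Nat.card_congr ((U : Subgroup H).equivMapOfInjective H.subtype H.subtype_injective).toEquiv).symm
  have hU0 : 0 < Nat.card U := Nat.card_pos
  have hUeq : (U : Subgroup H).map H.subtype = H ⊓ Subgroup.normalizer ((Q : Subgroup G) : Set G) := by
    apply Subgroup.eq_of_le_of_card_ge hle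
    rw [hcU, hN]
    exact Nat.le_of_dvd hU0 hUc
  have hUc' : Nat.card (U : Subgroup H) = u := by
    have h1 : Nat.card (U : Subgroup H) = Nat.card U := rfl
    rw [h1, ← hcU, hUeq, hN]
  have hUn : Nontrivial (U : Subgroup H) := by
    rw [← Finite.one_lt_card_iff_nontrivial, hUc']
    omega
  have hNC : Subgroup.normalizer ((U : Subgroup H) : Set H) ≤ Subgroup.centralizer (U : Set H) := by
    intro m hm
    obtain ⟨y, hy⟩ := exists_ne (1 : (U : Subgroup H))
    have hy1 : ((y : H) : G) ≠ 1 := fun h1 => hy (Subtype.ext (Subtype.ext h1))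
    have hmem : ∀ z ∈ (U : Subgroup H), (z : G) ∈ (Q : Subgroup G) := fun z hz => hUQ ⟨z, hz, rfl⟩
    have h1 : m * (y : H) * m⁻¹ ∈ (U : Subgroup H) := (Subgroup.mem_normalizer_iff.mp hm y).mp y.2
    have h2 : (m : G) * ((y : H) : G) * (m : G)⁻¹ ∈ (Q : Subgroup G) := hmem _ h1
    have h3 : (m : G) * ((y : H) : G) * (m : G)⁻¹ ∈ (((m : G) • Q : Sylow 3 G) : Subgroup G) := by
      rw [Sylow.coe_subgroup_smul]
      exact Subgroup.smul_mem_pointwise_smul _ (MulAut.conj (m : G)) _ (hmem _ y.2)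
    have h4 : (m : G) • Q = Q := by
      apply ti _ _ _ _ h3 h2
      intro h5
      apply hy1
      have h6 := congrArg (fun w => (m : G)⁻¹ * w * (m : G)) h5
      simpa [mul_assoc] using h6
    have h5 : (m : G) ∈ (U : Subgroup H).map H.subtype := by
      rw [hUeq]
      exact ⟨m.2, Sylow.smul_eq_iff_mem_normalizer.mp h4⟩
    obtain ⟨m', hm', hmm⟩ := h5
    have h6 : m' = m := Subtype.ext hmm
    rw [h6] at hm'
    rw [Subgroup.mem_centralizer_iff]
    intro z hz
    apply Subtype.ext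
    exact comm Q _ (hmem z hz) _ (hmem m hm')
  -- the normal complement
  have hcompl := MonoidHom.ker_transferSylow_isComplement' U hNC
  set φ := MonoidHom.transferSylow U hNC with hφ
  have hK : Nat.card φ.ker = q + 1 := by
    have h1 := hcompl.card_mul_card
    rw [hUc', hHc, mul_comm u] at h1
    exact Nat.eq_of_mul_eq_mul_right (show 0 < u by omega) h1
  have htwo : ∀ z : H, (∃ k, z ^ (2 ^ k) = 1) → z ∈ φ.ker := by
    rintro z ⟨k, hk⟩
    rw [MonoidHom.mem_ker, ← orderOf_eq_one_iff]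
    have h1 : orderOf (φ z) ∣ 2 ^ k := orderOf_dvd_of_pow_eq_one (by rw [← map_pow, hk, map_one])
    obtain ⟨j, hj⟩ := (IsPGroup.iff_orderOf.mp U.isPGroup') (φ z)
    rw [hj] at h1 ⊢
    have h2 : Nat.Coprime (3 ^ j) (2 ^ k) := Nat.Coprime.pow _ _ (by norm_num)
    exact h2.eq_one_of_dvd h1
  -- counting involutions
  have hi : Nat.card {b : G // orderOf b = 2 ∧ b • α = α} = q := by
    have h1 := card_involutions_fix hfix α
    have h2 := card_involutions h hx hxP
    rw [hC] at h2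
    rw [Nat.card_eq_fintype_card (α := Ω), hΩ] at h1
    have h3 : Nat.card {b : G // orderOf b = 2} = q * p := by
      apply Nat.eq_of_mul_eq_mul_right (show 0 < 2 * (q + 1) by omega)
      have h4 : q ^ 2 - 1 = (q + 1) * (2 * p) := by
        obtain ⟨j, hj⟩ : ∃ j, q = j + 1 := ⟨q - 1, by omega⟩
        have : q ^ 2 = (q + 1) * j + 1 := by rw [hj]; ring
        have hj' : q - 1 = j := by omega
        rw [hp, hj']
        omega
      calc Nat.card {b : G // orderOf b = 2} * (2 * (q + 1)) =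
          2 * (Nat.card {b : G // orderOf b = 2} * (q + 1)) := by ring
        _ = q * p * (2 * (q + 1)) := by rw [h2, hcard, h4]; ring
    rw [h3] at h1
    apply Nat.eq_of_mul_eq_mul_left (show 0 < 3 * p by omega)
    rw [h1]
    ring
  let f : {b : G // orderOf b = 2 ∧ b • α = α} → {k : φ.ker // k ≠ 1} := fun b =>
    ⟨⟨⟨b.1, (hHmem _).mpr b.2.2⟩, htwo _ ⟨1, by
      apply Subtype.ext
      exact orderOf_dvd_iff_pow_eq_one.mp (dvd_of_eq b.2.1)⟩⟩, by
      intro h1
      have h2 : b.1 = 1 := congrArg (fun w : φ.ker => ((w : H) : G)) h1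
      have h3 := b.2.1
      rw [h2, orderOf_one] at h3
      norm_num at h3⟩
  have hf : Function.Injective f := by
    intro b c hbc
    apply Subtype.ext
    exact congrArg (fun w : {k : φ.ker // k ≠ 1} => ((w.1 : H) : G)) hbc
  have hcard1 : Nat.card {k : φ.ker // k ≠ 1} = q := by
    let _ := Fintype.ofFinite φ.ker
    rw [Nat.card_eq_fintype_card, Fintype.card_subtype_compl, Fintype.card_subtype_eq,
      ← Nat.card_eq_fintype_card, hK, Nat.add_sub_cancel]
  have hfb : Function.Bijective f := by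
    rw [Nat.bijective_iff_injective_and_card]
    exact ⟨hf, by rw [hi, hcard1]⟩
  have hsq : ∀ k : φ.ker, k ^ 2 = 1 := by
    intro k
    by_cases hk : k = 1
    · rw [hk, one_pow]
    · obtain ⟨b, hb⟩ := hfb.2 ⟨k, hk⟩
      have h1 : ((k : H) : G) = b.1 := congrArg (fun w : {k : φ.ker // k ≠ 1} => ((w.1 : H) : G)) hb.symm
      apply Subtype.ext
      apply Subtype.ext
      change ((k : H) : G) ^ 2 = 1
      rw [h1]
      exact orderOf_dvd_iff_pow_eq_one.mp (dvd_of_eq b.2.1)
  -- `K` is the Sylow `2`-subgroup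
  have hKp : IsPGroup 2 (φ.ker.map H.subtype) := by
    apply IsPGroup.map
    intro k
    exact ⟨1, hsq k⟩
  have hSK : (S : Subgroup G) ≤ φ.ker.map H.subtype := by
    intro s hs
    have h1 : s ∈ H := (hHmem s).mpr (hB.fix s hs)
    refine ⟨⟨s, h1⟩, htwo _ ?_, rfl⟩
    obtain ⟨k, hk⟩ := S.isPGroup' ⟨s, hs⟩
    have hk' : s ^ (2 ^ k) = 1 := congrArg Subtype.val hk
    exact ⟨k, Subtype.ext hk'⟩
  have hSK' : φ.ker.map H.subtype = S := S.is_maximal' hKp hSK
  have hSc : Nat.card (S : Subgroup G) = q + 1 := by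
    rw [← hSK', ← hK]
    exact (Nat.card_congr (φ.ker.equivMapOfInjective H.subtype H.subtype_injective).toEquiv).symm
  obtain ⟨ε⟩ := hS
  have h1 := Nat.card_congr ε.toEquiv
  rw [hSc, DihedralGroup.nat_card] at h1
  have h2 : (ε.symm (DihedralGroup.r 1)) ^ 2 = 1 := by
    have h3 : ((ε.symm (DihedralGroup.r 1) : (S : Subgroup G)) : G) ∈ φ.ker.map H.subtype := by
      rw [hSK']
      exact (ε.symm (DihedralGroup.r 1)).2
    obtain ⟨k, hk, hk'⟩ := h3
    apply Subtype.ext
    change ((ε.symm (DihedralGroup.r 1) : (S : Subgroup G)) : G) ^ 2 = 1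
    rw [← hk', ← map_pow]
    have h4 := hsq ⟨k, hk⟩
    have h5 : k ^ 2 = 1 := congrArg Subtype.val h4
    rw [h5, map_one]
  have h3 : orderOf (DihedralGroup.r (1 : ZMod n)) ∣ 2 := by
    apply orderOf_dvd_of_pow_eq_one
    apply ε.symm.injective
    rw [map_pow, h2, map_one]
  rw [DihedralGroup.orderOf_r_one] at h3
  have := Nat.le_of_dvd (by norm_num) h3
  omega

/-- `PSL₂(q)`, `q` odd: `q = 9`, `p = 5`. -/
theorem main_dih (h : Hyp P) (hΩ : Fintype.card Ω = 3 * p)
    (hfix : ∀ b : G, orderOf b = 2 → (fixedBy Ω b).ncard = 3) {S : Sylow 2 G} {α : Ω} (hB : CaseB S α)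
    {n : ℕ} (hS : Nonempty ((S : Subgroup G) ≃* DihedralGroup n)) {F : Type*} [Field F] [Fintype F]
    (hodd : Odd (Fintype.card F)) (hF3 : 3 < Fintype.card F)
    (e : G ≃* ProjectiveSpecialLinearGroup (Fin 2) F) : Fintype.card F = 9 ∧ p = 5 := by
  classical
  have hpp : p.Prime := Fact.out
  have hp5 := h.five
  have h2 : (2 : F) ≠ 0 := (Cfsg.Agent.ClassicalGeometry.PSL2Basic.two_ne_zero_iff_odd F).mpr hodd
  obtain ⟨r, hch⟩ := CharP.exists F
  obtain ⟨a, hr, ha⟩ := FiniteField.card F r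
  have : Fact r.Prime := ⟨hr⟩
  have hcard := Cfsg.Agent.SmallSimple.PSLTwoPart.card_psl_two_odd hodd
  rw [← Nat.card_congr e.toEquiv] at hcard
  obtain ⟨x, hx, hxP⟩ := h.exists_not_mem
  have hx2 := h.orderOf_eq_two hx hxP
  have hx1 : x ≠ 1 := by
    rintro rfl
    rw [orderOf_one] at hx2
    norm_num at hx2
  have hxx : x * x = 1 := h.mul_self_eq_one hx hxP
  obtain ⟨T, m, hT, hm⟩ := Cfsg.Agent.Lib.PSL2Torus.exists_torus h2 e hx1 hxx
  have hc := hT.card_centralizer
  have hcent := not_dvd_centralizer h hx1 (by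
    rw [hx2]
    intro h3
    have := Nat.le_of_dvd (by norm_num) h3
    omega)
  rw [hc] at hcent
  rw [Nat.card_eq_fintype_card] at hm
  have hpq : ¬ p ∣ Fintype.card F := fun hpq => not_dvd_q h hΩ hB hr ha hcard hpq
  have hr3 : r = 3 := char_three h hΩ α hodd ha a.ne_zero e hcard hpq h2
  subst hr3
  set q := Fintype.card F with hq
  obtain ⟨b, hb⟩ : ∃ b, (a : ℕ) = b + 1 := ⟨a - 1, by
    have := a.pos
    omega⟩
  have hb0 : b ≠ 0 := by
    rintro rfl
    rw [hb] at ha
    norm_num at ha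
    omega
  set u := 3 ^ b with hu
  have hqu : q = 3 * u := by
    rw [ha, hb, hu]
    ring
  have hu3 : 3 ∣ u := dvd_pow_self 3 hb0
  have hu3' : 3 ≤ u := Nat.le_of_dvd (by positivity) hu3
  have hq2 : q ^ 2 = 9 * u ^ 2 := by rw [hqu]; ring
  have hH := card_stabilizer (G := G) hΩ α
  have hH2 : Nat.card (stabilizer G α) * (2 * p) = u * (9 * u ^ 2 - 1) := by
    apply Nat.eq_of_mul_eq_mul_left (show 0 < 3 by norm_num)
    calc 3 * (Nat.card (stabilizer G α) * (2 * p)) = 2 * (Nat.card (stabilizer G α) * (3 * p)) := by ring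
      _ = q * (q ^ 2 - 1) := by rw [hH, hcard]
      _ = _ := by rw [hq2, hqu]; ring
  have huH : 3 ^ b ∣ Nat.card (stabilizer G α) := by
    have hcop : Nat.Coprime (3 ^ b) (2 * p) := by
      apply Nat.Coprime.pow_left
      rw [Nat.Prime.coprime_iff_not_dvd Nat.prime_three]
      intro h3
      rcases Nat.prime_three.dvd_mul.mp h3 with h4 | h4
      · norm_num at h4
      · have h7 := (Nat.prime_dvd_prime_iff_eq Nat.prime_three hpp).mp h4
        omega
    exact hcop.dvd_of_dvd_mul_right (by rw [hH2]; exact dvd_mul_right _ _)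
  obtain ⟨U, Q, N, hUQ, hUc, hN1, hN2, hN3, hN4, hN5⟩ := orbit_data hΩ α hp5 hodd ha e hcard huH
  rw [← hu] at hUc hN1 hN5
  rw [← hq] at hN2
  obtain ⟨k, hk⟩ := hN1
  have hN : N = k * u + 1 := by
    rw [mul_comm] at hk
    omega
  have hk0 : 0 < k := by
    rcases Nat.eq_zero_or_pos k with h3 | h3
    · rw [h3] at hN
      omega
    · exact h3
  have hk3 : k ≤ 3 := by
    have h3 : k * u ≤ 3 * u := by omega
    exact Nat.le_of_mul_le_mul_right h3 (by omega)
  have hdiv : (k * u + 1) * (2 * p) ∣ 9 * u ^ 2 - 1 := by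
    obtain ⟨c, hc⟩ := hN5
    refine ⟨c, ?_⟩
    apply Nat.eq_of_mul_eq_mul_left (show 0 < u by omega)
    rw [← hH2, hc, hN]
    ring
  rcases arith_char_three hu3' hk3 hk0 hdiv hu3 with ⟨-, h3⟩ | h3
  · have h9 : q = 9 := by rw [hqu, h3]
    refine ⟨h9, ?_⟩
    rw [h3] at hH2
    have h4 : p ∣ 3 * 80 := by
      refine ⟨2 * Nat.card (stabilizer G α), ?_⟩
      have h5 : 3 * (9 * 3 ^ 2 - 1) = 3 * 80 := by norm_num
      rw [← h5, ← hH2]
      ring
    have h5 : p ∣ 2 ^ 4 * 3 * 5 := by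
      have : 2 ^ 4 * 3 * 5 = 3 * 80 := by norm_num
      rw [this]
      exact h4
    rcases hpp.dvd_mul.mp h5 with h6 | h6
    · exfalso
      rcases hpp.dvd_mul.mp h6 with h7 | h7
      · have := (Nat.prime_dvd_prime_iff_eq hpp Nat.prime_two).mp (hpp.dvd_of_dvd_pow h7)
        omega
      · have := (Nat.prime_dvd_prime_iff_eq hpp Nat.prime_three).mp h7
        omega
    · exact (Nat.prime_dvd_prime_iff_eq hpp (by norm_num)).mp h6
  · exfalso
    subst h3
    have hNq : N = q + 1 := by rw [hN, hqu]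
    have hq1 : q ^ 2 - 1 = (q + 1) * (q - 1) := by
      obtain ⟨j, hj⟩ : ∃ j, q = j + 1 := ⟨q - 1, by omega⟩
      have : q ^ 2 = (q + 1) * j + 1 := by rw [hj]; ring
      have hj' : q - 1 = j := by omega
      rw [hj']
      omega
    have h3 : 2 * p ∣ q - 1 := by
      obtain ⟨c, hc⟩ := hdiv
      refine ⟨c, ?_⟩
      apply Nat.eq_of_mul_eq_mul_left (show 0 < q + 1 by omega)
      rw [← hq1, hq2, hc, hqu]
      ring
    obtain ⟨T', hT', hTc'⟩ := PslFacts.split_torus e h2
    rw [← hq] at hTc'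
    have h4 : p ∣ Nat.card T' := by
      obtain ⟨c, hc⟩ := h3
      exact ⟨c, by
        apply Nat.eq_of_mul_eq_mul_right (show 0 < 2 by norm_num)
        rw [hTc', hc]
        ring⟩
    have h5 := card_eq_of_comm h T' hT' h4
    rw [h5] at hTc'
    have hc' : Nat.card (Subgroup.centralizer ({x} : Set G)) = q + 1 := by
      rcases hm with ⟨-, h6⟩ | ⟨-, h6⟩
      · exfalso
        apply hcent
        rw [h6, ← hTc']
        exact dvd_mul_right p 2
      · rw [hc, h6]
    have hHc : Nat.card (stabilizer G α) = u * (q + 1) := by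
      apply Nat.eq_of_mul_eq_mul_right (show 0 < 2 * p by omega)
      rw [hH2, ← hq2, hq1, ← hTc']
      ring
    have hNn : Nat.card ↥(stabilizer G α ⊓ Subgroup.normalizer ((Q : Subgroup G) : Set G)) = u := by
      apply Nat.eq_of_mul_eq_mul_left (show 0 < N by omega)
      rw [hN4, hHc, hNq]
      ring
    exact no_regular h hΩ hfix hB hS hu3' hqu (by omega) hcard hx hxP hc' (PslFacts.sylow_ti e 3)
      (PslFacts.sylow_comm e 3) _ rfl U Q hUQ hUc hNn

end Main

end Cfsg.Agent.H103.ThreeP
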